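import Mathlib
import Cfsg.Prelude.Def_CaseTheorems

/-!
# S3806 team project "MC" (maximal class, sectional rank): interface

Every package is a `def PkgX : Prop` (universe polymorphic in `u`); a package is delivered as
`theorem pkgX : Cfsg.Agent.Lib.Helper63.MC.PkgX.{u}` in the deliverer's own file.

Indexing: `L T i` is the `i`-th term of the lower central series in Mathlib's indexing
(`L T 0 = ⊤`, `L T 1 = commutator T`), i.e. the classical `γ_{i+1}(T)`.
-/

set_option autoImplicit false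

namespace Cfsg.Agent.Lib.Helper63.MC

universe u

/-- terms of the lower central series of the whole group -/
abbrev L (G : Type u) [Group G] (i : ℕ) : Subgroup G := (⊤ : Subgroup G).lowerCentralSeries i

/-- the two-step centralizer `C_T(L i / L (i+2))` -/
def K (T : Type u) [Group T] (i : ℕ) : Subgroup T where
  carrier := {g | ∀ a ∈ L T i, a⁻¹ * (g * a * g⁻¹) ∈ L T (i + 2)}
  one_mem' := by
    intro a _
    have h : a⁻¹ * (1 * a * 1⁻¹) = 1 := by group
    rw [h]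
    exact Subgroup.one_mem _
  mul_mem' := by
    intro g h hg hh a ha
    have hN : (L T (i + 2)).Normal := inferInstance
    have e : a⁻¹ * (g * h * a * (g * h)⁻¹) =
        a⁻¹ * (g * a * g⁻¹) * (g * (a⁻¹ * (h * a * h⁻¹)) * g⁻¹) := by group
    rw [e]
    exact Subgroup.mul_mem _ (hg a ha) (hN.conj_mem _ (hh a ha) g)
  inv_mem' := by
    intro g hg a ha
    have hN : (L T (i + 2)).Normal := inferInstance
    have e : a⁻¹ * (g⁻¹ * a * g⁻¹⁻¹) = g⁻¹ * (a⁻¹ * (g * a * g⁻¹))⁻¹ * g⁻¹⁻¹ := by group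
    rw [e]
    exact hN.conj_mem _ (Subgroup.inv_mem _ (hg a ha)) g⁻¹

theorem mem_K {T : Type u} [Group T] {i : ℕ} {g : T} :
    g ∈ K T i ↔ ∀ a ∈ L T i, a⁻¹ * (g * a * g⁻¹) ∈ L T (i + 2) := Iff.rfl

/-- [BIN] binomial expansion of the norm `1 + σ + ... + σ^(p-1)` in a commutative group:
with `d (l+1) = σ (d l) / d l`, `∏_{t<p} σ^t (d 0) = ∏_{l<p} (d l)^(choose p (l+1))`, and all
factors with `l ≥ 1` vanish under the hypotheses. -/
def PkgBinom : Prop :=
  ∀ (A : Type u) [CommGroup A] (σ : A →* A) (p : ℕ), p.Prime → ∀ (d : ℕ → A),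
    (∀ l, d (l + 1) = σ (d l) * (d l)⁻¹) →
    (∀ l, 1 ≤ l → (d l) ^ p = 1) → d (p - 1) = 1 →
    ∏ t ∈ Finset.range p, (⇑σ)^[t] (d 0) = (d 0) ^ p

/-- [KL] the key lemma: `A` abelian normal, `x ^ p` commutes with `a`, `c = a⁻¹ (x a x⁻¹) ∈ A`,
the iterated commutators `e l` of `c` with `x` have order dividing `p` for `l ≥ 1` and
`e (p-1) = 1`: then `c ^ p = 1`. -/
def PkgKL : Prop :=
  ∀ (T : Type u) [Group T] (A : Subgroup T) [A.Normal], (∀ a ∈ A, ∀ b ∈ A, a * b = b * a) →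
    ∀ (p : ℕ), p.Prime → ∀ (x a : T), x ^ p * a = a * x ^ p →
    ∀ (e : ℕ → T), e 0 = a⁻¹ * (x * a * x⁻¹) → e 0 ∈ A →
      (∀ l, e (l + 1) = x * e l * x⁻¹ * (e l)⁻¹) →
      (∀ l, 1 ≤ l → (e l) ^ p = 1) → e (p - 1) = 1 → (e 0) ^ p = 1

/-- [COVER] a finite `p`-group is not the union of at most `p` proper subgroups. -/
def PkgCover : Prop :=
  ∀ (T : Type u) [Group T] [Finite T] (p : ℕ) [Fact p.Prime], IsPGroup p T →
    ∀ (F : Finset (Subgroup T)), F.card ≤ p → (∀ H ∈ F, H ≠ ⊤) → ∃ t : T, ∀ H ∈ F, t ∉ H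

/-- [STRUCT] orders of the lower central terms of a `p`-group of maximal class, and
`T / T'` has exponent `p`. -/
def PkgStruct : Prop :=
  ∀ (T : Type u) [Group T] [Finite T] (p : ℕ) [Fact p.Prime] (n : ℕ), 3 ≤ n →
    Nat.card T = p ^ n → Group.nilpotencyClass T = n - 1 →
    (∀ i, 1 ≤ i → i ≤ n - 1 → Nat.card (L T i) = p ^ (n - 1 - i)) ∧ ∀ t : T, t ^ p ∈ L T 1

/-- [QUOT] quotients of a `p`-group of maximal class by lower central terms have maximal
class. -/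
def PkgQuot : Prop :=
  ∀ (S : Type u) [Group S] [Finite S] (p : ℕ) [Fact p.Prime] (n m : ℕ), 3 ≤ m → m ≤ n →
    Nat.card S = p ^ n → Group.nilpotencyClass S = n - 1 →
    Nat.card (S ⧸ L S (m - 1)) = p ^ m ∧ Group.nilpotencyClass (S ⧸ L S (m - 1)) = m - 1

/-- [GEN] the elements outside the first `k` two-step centralizers generate. -/
def PkgGen : Prop :=
  ∀ (T : Type u) [Group T] [Finite T] (p : ℕ) [Fact p.Prime] (k : ℕ), 2 ≤ k → k + 2 ≤ p →
    Nat.card T = p ^ (2 * k + 1) → Group.nilpotencyClass T = 2 * k →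
    Subgroup.closure {x : T | ∀ i, 1 ≤ i → i ≤ k → x ∉ K T i} = ⊤

/-- [POW] `p`-th powers of elements outside the first `k` two-step centralizers lie in
`L (k+1)`. -/
def PkgPow : Prop :=
  ∀ (T : Type u) [Group T] [Finite T] (p : ℕ) [Fact p.Prime] (k : ℕ), 2 ≤ k →
    Nat.card T = p ^ (2 * k + 1) → Group.nilpotencyClass T = 2 * k →
    ∀ x : T, (∀ i, 1 ≤ i → i ≤ k → x ∉ K T i) → x ^ p ∈ L T (k + 1)

/-- [ABEL] `L (k-1)` is abelian in a group of maximal class of order `p ^ (2k+1)`. -/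
def PkgAbel : Prop :=
  ∀ (T : Type u) [Group T] [Finite T] (p : ℕ) [Fact p.Prime] (k : ℕ), 2 ≤ k →
    Nat.card T = p ^ (2 * k + 1) → Group.nilpotencyClass T = 2 * k →
    ∀ a ∈ L T (k - 1), ∀ b ∈ L T (k - 1), a * b = b * a

/-- [SEC] an elementary abelian subgroup of order `> p ^ k` of a quotient contradicts sectional
`p`-rank `≤ k`. -/
def PkgSec : Prop :=
  ∀ (S : Type u) [Group S] [Finite S] (p k : ℕ) (N : Subgroup S) [N.Normal]
    (A : Subgroup (S ⧸ N)),
    (∀ a ∈ A, ∀ b ∈ A, a * b = b * a) → (∀ a ∈ A, a ^ p = 1) → p ^ k < Nat.card A →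
    ¬ Cfsg.SectionalPRankLE p k S

/-- [EA] (assembly, helper63) in a `p`-group of maximal class of order `p ^ (2k+1)` with
`2 ≤ k ≤ p - 2`, the term `L (k-1)` is elementary abelian of order `p ^ (k+1)`. -/
def PkgEA : Prop :=
  ∀ (T : Type u) [Group T] [Finite T] (p : ℕ) [Fact p.Prime] (k : ℕ), 2 ≤ k → k + 2 ≤ p →
    Nat.card T = p ^ (2 * k + 1) → Group.nilpotencyClass T = 2 * k →
    (∀ a ∈ L T (k - 1), ∀ b ∈ L T (k - 1), a * b = b * a) ∧ (∀ a ∈ L T (k - 1), a ^ p = 1) ∧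
      Nat.card (L T (k - 1)) = p ^ (k + 1)

end Cfsg.Agent.Lib.Helper63.MC
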