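import Mathlib
import Cfsg.Agent.Lib.Helper63.MC.Defs
import Cfsg.Agent.S4209

/-!
# S3806 team project "MC": assembly of (EA)

In a `p`-group of maximal class of order `p ^ (2k+1)` with `2 ≤ k ≤ p - 2`, the term `L (k-1)`
of the lower central series is elementary abelian of order `p ^ (k+1)`.
-/

set_option autoImplicit false

namespace Cfsg.Agent.Lib.Helper63.MC

universe u

open scoped commutatorElement

theorem pkgEA_of (hKL : PkgKL.{u}) (hGen : PkgGen.{u}) (hPow : PkgPow.{u}) (hAb : PkgAbel.{u})
    (hSt : PkgStruct.{u}) : PkgEA.{u} := by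
  intro T _ _ p _ k hk hkp hcard hcl
  have hp : p.Prime := Fact.out
  have hP : IsPGroup p T := IsPGroup.of_card hcard
  haveI hnil : Group.IsNilpotent T := hP.isNilpotent
  have hab := hAb T p k hk hcard hcl
  obtain ⟨hcards, -⟩ := hSt T p (2 * k + 1) (by omega) hcard (by rw [hcl]; omega)
  have hLbot : L T (2 * k) = ⊥ := by
    show (⊤ : Subgroup T).lowerCentralSeries (2 * k) = ⊥
    rw [Subgroup.lowerCentralSeries_eq_bot_iff_nilpotencyClass_le]; omega
  have hLanti : ∀ {i j : ℕ}, i ≤ j → L T j ≤ L T i :=
    fun h => Subgroup.lowerCentralSeries_antitone _ h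
  have hLn : ∀ i : ℕ, (L T i).Normal := fun i => inferInstance
  have hLsucc : ∀ {i : ℕ} {y : T}, y ∈ L T i → ∀ g : T, ⁅y, g⁆ ∈ L T (i + 1) :=
    fun hy g => Subgroup.commutator_mem_commutator hy (Subgroup.mem_top g)
  refine ⟨hab, ?_, ?_⟩
  · -- exponent p
    obtain ⟨X, hX⟩ : ∃ X : Set T, X = {x : T | ∀ i, 1 ≤ i → i ≤ k → x ∉ K T i} := ⟨_, rfl⟩
    have hgen : Subgroup.closure X = ⊤ := by rw [hX]; exact hGen T p k hk hkp hcard hcl
    have hpow : ∀ x ∈ X, x ^ p ∈ L T (k + 1) := by
      intro x hx
      rw [hX] at hx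
      exact hPow T p k hk hcard hcl x hx
    -- `x ^ p` commutes with `L (k-2)`
    have hcomm : ∀ x ∈ X, ∀ a ∈ L T (k - 2), x ^ p * a = a * x ^ p := by
      intro x hx a ha
      have h1 : ⁅x ^ p, a⁆ ∈ ⁅L T (k + 1), L T (k - 2)⁆ :=
        Subgroup.commutator_mem_commutator (hpow x hx) ha
      have h2 := Cfsg.Agent.S4209.lcs_comm_top (K := T) (k + 1) (k - 2) h1
      have h3 : k + 1 + (k - 2) + 1 = 2 * k := by omega
      rw [h3] at h2
      have h4 : ⁅x ^ p, a⁆ = 1 := by
        have h5 : ⁅x ^ p, a⁆ ∈ L T (2 * k) := h2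
        rw [hLbot, Subgroup.mem_bot] at h5
        exact h5
      rw [commutatorElement_def] at h4
      calc x ^ p * a = (x ^ p * a * (x ^ p)⁻¹ * a⁻¹) * (a * x ^ p) := by group
        _ = a * x ^ p := by rw [h4, one_mul]
    -- main downward induction
    have main : ∀ j m, m + j = 2 * k → k - 1 ≤ m → ∀ c ∈ L T m, c ^ p = 1 := by
      intro j
      induction j with
      | zero =>
        intro m hm _ c hc
        have hm' : m = 2 * k := by omega
        rw [hm', hLbot, Subgroup.mem_bot] at hc
        rw [hc, one_pow]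
      | succ j ih =>
        intro m hm hkm c hc
        have ih' : ∀ c ∈ L T (m + 1), c ^ p = 1 := ih (m + 1) (by omega) (by omega)
        obtain ⟨m', rfl⟩ : ∃ m', m = m' + 1 := ⟨m - 1, by omega⟩
        have hLmA : L T (m' + 1) ≤ L T (k - 1) := hLanti (by omega)
        have hcommA : ∀ y ∈ L T (m' + 1), ∀ z ∈ L T (m' + 1), Commute y z :=
          fun y hy z hz => hab y (hLmA hy) z (hLmA hz)
        -- generators
        have hgenc : ∀ g : T, ∀ a ∈ L T m', ⁅a, g⁆ ^ p = 1 := by
          intro g
          have hg : g ∈ Subgroup.closure X := by rw [hgen]; exact Subgroup.mem_top g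
          induction hg using Subgroup.closure_induction with
          | mem x hx =>
            intro a ha
            have hb : a⁻¹ ∈ L T m' := Subgroup.inv_mem _ ha
            have hb' : a⁻¹ ∈ L T (k - 2) := hLanti (by omega) hb
            let e : ℕ → T := fun l =>
              Nat.rec (a⁻¹⁻¹ * (x * a⁻¹ * x⁻¹)) (fun _ y => x * y * x⁻¹ * y⁻¹) l
            have he0 : e 0 = a⁻¹⁻¹ * (x * a⁻¹ * x⁻¹) := rfl
            have hes : ∀ l, e (l + 1) = x * e l * x⁻¹ * (e l)⁻¹ := fun l => rfl
            have hemem : ∀ l, e l ∈ L T (m' + 1 + l) := by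
              intro l
              induction l with
              | zero =>
                rw [he0]
                have h1 : a⁻¹⁻¹ * (x * a⁻¹ * x⁻¹) = ⁅a, x⁆ := by
                  rw [commutatorElement_def]; group
                rw [h1]
                exact hLsucc ha x
              | succ l ihl =>
                rw [hes]
                have h1 : x * e l * x⁻¹ * (e l)⁻¹ = ⁅e l, x⁆⁻¹ := by
                  rw [commutatorElement_def]; group
                rw [h1]
                exact Subgroup.inv_mem _ (hLsucc ihl x)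
            have h0A : e 0 ∈ L T (k - 1) := hLmA (hemem 0)
            have hpw : ∀ l, 1 ≤ l → (e l) ^ p = 1 := by
              intro l hl
              exact ih' (e l) (hLanti (by omega) (hemem l))
            have hlast : e (p - 1) = 1 := by
              have h1 : e (p - 1) ∈ L T (2 * k) := hLanti (by omega) (hemem (p - 1))
              rw [hLbot, Subgroup.mem_bot] at h1
              exact h1
            have hres := hKL T (L T (k - 1)) hab p hp x a⁻¹ (hcomm x hx a⁻¹ hb') e he0 h0A hes
              hpw hlast
            have h1 : ⁅a, x⁆ = e 0 := by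
              rw [he0, commutatorElement_def]; group
            rw [h1]
            exact hres
          | one =>
            intro a _
            have h1 : ⁅a, (1 : T)⁆ = 1 := by rw [commutatorElement_def]; group
            rw [h1, one_pow]
          | mul g h _ _ ihg ihh =>
            intro a ha
            have h1 : ⁅a, g * h⁆ = ⁅a, g⁆ * (g * ⁅a, h⁆ * g⁻¹) := by
              simp only [commutatorElement_def]; group
            have h2 : ⁅a, g⁆ ∈ L T (m' + 1) := hLsucc ha g
            have h3 : g * ⁅a, h⁆ * g⁻¹ ∈ L T (m' + 1) := (hLn _).conj_mem _ (hLsucc ha h) g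
            rw [h1, (hcommA _ h2 _ h3).mul_pow, ihg a ha, conj_pow, ihh a ha]
            group
          | inv g _ ihg =>
            intro a ha
            have h1 : ⁅a, g⁻¹⁆ = g⁻¹ * ⁅a, g⁆⁻¹ * g⁻¹⁻¹ := by
              simp only [commutatorElement_def]; group
            rw [h1, conj_pow, inv_pow, ihg a ha]
            group
        -- all of `L (m'+1)`
        have hall : ∀ y ∈ Subgroup.closure {y | ∃ a ∈ L T m', ∃ g ∈ (⊤ : Subgroup T), ⁅a, g⁆ = y},
            y ∈ L T (m' + 1) ∧ y ^ p = 1 := by
          intro y hy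
          induction hy using Subgroup.closure_induction with
          | mem y hy =>
            obtain ⟨a, ha, g, -, rfl⟩ := hy
            exact ⟨hLsucc ha g, hgenc g a ha⟩
          | one => exact ⟨Subgroup.one_mem _, one_pow _⟩
          | mul y z _ _ ihy ihz =>
            refine ⟨Subgroup.mul_mem _ ihy.1 ihz.1, ?_⟩
            rw [(hcommA _ ihy.1 _ ihz.1).mul_pow, ihy.2, ihz.2, one_mul]
          | inv y _ ihy =>
            refine ⟨Subgroup.inv_mem _ ihy.1, ?_⟩
            rw [inv_pow, ihy.2, inv_one]
        have hboth := hall c hc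
        exact hboth.2
    intro a ha
    exact main (2 * k - (k - 1)) (k - 1) (by omega) le_rfl a ha
  · have h1 := hcards (k - 1) (by omega) (by omega)
    rw [h1]
    congr 1
    omega

end Cfsg.Agent.Lib.Helper63.MC
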