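import Mathlib
import Cfsg.Agent.Lib.Helper63.MC.Defs

/-!
# S3806 team project "MC": the final assembly

A `p`-group of maximal class of sectional `p`-rank `k` with `p ≥ k + 2` has order at most
`p ^ (2k)`.
-/

set_option autoImplicit false

namespace Cfsg.Agent.Lib.Helper63.MC

universe u

open scoped commutatorElement

theorem s3806_of (hSt : PkgStruct.{u}) (hQ : PkgQuot.{u}) (hEA : PkgEA.{u}) (hSec : PkgSec.{u})
    {S : Type u} [Group S] [Finite S] (p : ℕ) [Fact p.Prime]
    (n : ℕ) (hcard : Nat.card S = p ^ n) (hmax : Group.nilpotencyClass S = n - 1)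
    (k : ℕ) (hk : 1 ≤ k) (hsr : Cfsg.SectionalPRankLE p k S)
    (hpk : k + 2 ≤ p) : Nat.card S ≤ p ^ (2 * k) := by
  have hp : p.Prime := Fact.out
  rw [hcard]
  apply Nat.pow_le_pow_right hp.pos
  by_contra hlt
  push Not at hlt
  rcases Nat.lt_or_ge k 2 with hk1 | hk2
  · have hk' : k = 1 := by omega
    subst hk'
    obtain ⟨hcards, hpowL⟩ := hSt S p n (by omega) hcard hmax
    apply hSec S p 1 (L S 1) ⊤ ?_ ?_ ?_ hsr
    · intro a _ b _
      obtain ⟨x, rfl⟩ := QuotientGroup.mk_surjective a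
      obtain ⟨y, rfl⟩ := QuotientGroup.mk_surjective b
      rw [← QuotientGroup.mk_mul, ← QuotientGroup.mk_mul, QuotientGroup.eq]
      have h1 : (x * y)⁻¹ * (y * x) = ⁅y⁻¹, x⁻¹⁆ := by rw [commutatorElement_def]; group
      rw [h1]
      exact Subgroup.commutator_mem_commutator (Subgroup.mem_top _) (Subgroup.mem_top _)
    · intro a _
      obtain ⟨x, rfl⟩ := QuotientGroup.mk_surjective a
      rw [← QuotientGroup.mk_pow, QuotientGroup.eq_one_iff]
      exact hpowL x
    · rw [Subgroup.card_top]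
      have h1 := hcards 1 le_rfl (by omega)
      have h2 := Subgroup.card_eq_card_quotient_mul_card_subgroup (L S 1)
      rw [hcard, h1] at h2
      have h3 : Nat.card (S ⧸ L S 1) = p ^ 2 := by
        have h4 : p ^ n = p ^ 2 * p ^ (n - 1 - 1) := by rw [← pow_add]; congr 1; omega
        rw [h4] at h2
        exact (Nat.eq_of_mul_eq_mul_right (pow_pos hp.pos _) h2).symm
      rw [h3]
      exact Nat.pow_lt_pow_right hp.one_lt (by norm_num)
  · obtain ⟨hcT, hclT⟩ := hQ S p n (2 * k + 1) (by omega) (by omega) hcard hmax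
    simp only [Nat.add_sub_cancel] at hcT hclT
    obtain ⟨habT, hexpT, hcardA⟩ := hEA (S ⧸ L S (2 * k)) p k hk2 hpk hcT hclT
    apply hSec S p k (L S (2 * k)) (L (S ⧸ L S (2 * k)) (k - 1)) habT hexpT ?_ hsr
    rw [hcardA]
    exact Nat.pow_lt_pow_right hp.one_lt (by omega)

end Cfsg.Agent.Lib.Helper63.MC
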