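import Mathlib
import Cfsg.Agent.Lib.Helper63.MC.Defs

/-!
# S3806 team project "MC", package [SEC]
-/

set_option autoImplicit false

namespace Cfsg.Agent.Lib.Helper63.MC

universe u

theorem pkgSec : PkgSec.{u} := by
  intro S _ _ p k N _ A hcomm hexp hlt hsec
  let N' : Subgroup (⊤ : Subgroup S) := N.subgroupOf ⊤
  haveI hN' : N'.Normal := Subgroup.normal_subgroupOf
  have hmap : N'.map (Subgroup.topEquiv : (⊤ : Subgroup S) ≃* S) = N := by
    ext x
    constructor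
    · rintro ⟨y, hy, rfl⟩
      exact hy
    · intro hx
      exact ⟨⟨x, Subgroup.mem_top x⟩, hx, rfl⟩
  let φ : ((⊤ : Subgroup S) ⧸ N') ≃* (S ⧸ N) :=
    QuotientGroup.congr N' N (Subgroup.topEquiv : (⊤ : Subgroup S) ≃* S) hmap
  let A' : Subgroup ((⊤ : Subgroup S) ⧸ N') := A.map φ.symm.toMonoidHom
  have hA'c : IsMulCommutative A' := by
    refine ⟨⟨fun a b => ?_⟩⟩
    obtain ⟨a, ha⟩ := a
    obtain ⟨b, hb⟩ := b
    apply Subtype.ext
    obtain ⟨a0, ha0, rfl⟩ := ha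
    obtain ⟨b0, hb0, rfl⟩ := hb
    show φ.symm.toMonoidHom a0 * φ.symm.toMonoidHom b0 = φ.symm.toMonoidHom b0 * φ.symm.toMonoidHom a0
    rw [← map_mul, ← map_mul, hcomm a0 ha0 b0 hb0]
  have hA'e : ∀ a ∈ A', a ^ p = 1 := by
    rintro _ ⟨a0, ha0, rfl⟩
    rw [← map_pow, hexp a0 ha0, map_one]
  have hcard : Nat.card A' = Nat.card A :=
    Subgroup.card_map_of_injective φ.symm.injective
  have h1 := hsec ⊤ N' A' hA'c hA'e
  rw [hcard] at h1
  omega

end Cfsg.Agent.Lib.Helper63.MC
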